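import Mathlib
import Cfsg.Agent.Lib.Helper68.Half.Defs

set_option autoImplicit false

/-! # HALF (S3371), package [CORE]: the counting in the dihedral / semidihedral case. -/

universe u v

namespace Cfsg.Agent.Lib.Helper72.Half

open Cfsg.Agent.Lib.Helper68.Half

/-- [CORE] -/
theorem pkgCore : PkgCore.{u, v} := by
  intro q _ V _ _ _ G _ _ ρ hq2 hEq hSemi hCent C z hMC
  obtain ⟨hidx, hzC, hzcen, hz1, hzz, hCz, hconj⟩ := hMC
  classical
  have : Fintype V := Fintype.ofFinite V
  have : Fintype {t : G // t ∉ C ∧ t * t = 1} := Fintype.ofFinite _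
  -- (a) `z` acts as `-1`
  have ha : ∀ v : V, ρ z v = -v := by
    intro v
    have h1 : ρ z (ρ z v + v) = ρ z v + v := by
      have h0 : ρ z (ρ z v) = v := by
        rw [← LinearEquiv.mul_apply, ← map_mul, hzz, map_one]; rfl
      rw [map_add, h0, add_comm]
    have := hCent z hzcen hz1 _ h1
    exact eq_neg_of_add_eq_zero_left this
  have h2 : (2 : ZMod q) ≠ 0 := by
    intro h
    have h' : ((2 : ℕ) : ZMod q) = 0 := by exact_mod_cast h
    have hd : q ∣ 2 := (ZMod.natCast_eq_zero_iff 2 q).mp h'
    exact hq2 ((Nat.prime_dvd_prime_iff_eq Fact.out Nat.prime_two).mp hd)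
  -- (b) no element of `C` other than `1` fixes a nonzero vector
  have hb : ∀ c ∈ C, c ≠ 1 → ∀ v : V, ρ c v = v → v = 0 := by
    intro c hc hc1 v hv
    obtain ⟨j, hj⟩ := hCz c hc hc1
    apply hCent z hzcen hz1
    rw [← hj, map_pow]
    clear hj
    induction j with
    | zero => simp
    | succ j ih => rw [pow_succ, LinearEquiv.mul_apply, hv, ih]
  -- (c) uniqueness
  have huniq : ∀ v : V, v ≠ 0 → ∀ g g' : G, g ∉ C → g' ∉ C → ρ g v = v → ρ g' v = v →
      g = g' := by
    intro v hv g g' hg hg' hgv hg'v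
    have h1 : g⁻¹ * g' ∈ C := by
      rw [Subgroup.mul_mem_iff_of_index_two hidx, inv_mem_iff]
      exact iff_of_false hg hg'
    by_contra hne
    have h2' : g⁻¹ * g' ≠ 1 := fun h => hne (inv_mul_eq_one.mp h)
    have h3 : ρ (g⁻¹ * g') v = v := by
      rw [map_mul, LinearEquiv.mul_apply, hg'v]
      have : ρ g⁻¹ (ρ g v) = v := by
        rw [← LinearEquiv.mul_apply, ← map_mul, inv_mul_cancel, map_one]; rfl
      rwa [hgv] at this
    exact hv (hb _ h1 h2' v h3)
  unfold Semi at hSemi
  push Not at hSemi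
  obtain ⟨v₀, hv₀, g₀, hg₀, hg₀1⟩ := hSemi
  -- (c) existence
  have hex : ∀ v : V, v ≠ 0 → ∃ t : G, t ∉ C ∧ t * t = 1 ∧ ρ t v = v := by
    intro v hv
    have hcard : Nat.card (St ρ v) = Nat.card (St ρ v₀) := hEq v v₀ hv hv₀
    have h1 : 1 < Nat.card (St ρ v₀) := by
      rw [Finite.one_lt_card_iff_nontrivial]
      exact ⟨⟨⟨g₀, hg₀⟩, 1, fun h => hg₀1 (congrArg Subtype.val h)⟩⟩
    rw [← hcard, Finite.one_lt_card_iff_nontrivial] at h1
    obtain ⟨⟨t, ht⟩, ht1⟩ := exists_ne (1 : St ρ v)
    have ht1' : t ≠ 1 := fun h => ht1 (Subtype.ext h)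
    have htv : ρ t v = v := ht
    have htC : t ∉ C := fun hC => hv (hb t hC ht1' v htv)
    refine ⟨t, htC, ?_, htv⟩
    have htt : t * t ∈ C := by
      rw [Subgroup.mul_mem_iff_of_index_two hidx]
    by_contra hne
    exact hv (hb _ htt hne v (by rw [map_mul, LinearEquiv.mul_apply, htv, htv]))
  -- (d) `card V` is the square of the number of fixed points of any `t`
  have hsq : ∀ t : G, t ∉ C → t * t = 1 →
      Fintype.card V = (Finset.univ.filter (fun v : V => ρ t v = v)).card *
        (Finset.univ.filter (fun v : V => ρ t v = v)).card := by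
    intro t htC htt
    obtain ⟨g, hg⟩ := hconj t htC htt
    have hgt : g * t = t * z * g := by rw [← hg]; group
    have hanti : ∀ a : V, ρ g (ρ t a) = -(ρ t (ρ g a)) := by
      intro a
      rw [← LinearEquiv.mul_apply, ← map_mul, hgt, map_mul, map_mul, LinearEquiv.mul_apply,
        LinearEquiv.mul_apply, ha, map_neg]
    have htt' : ∀ a : V, ρ t (ρ t a) = a := by
      intro a
      rw [← LinearEquiv.mul_apply, ← map_mul, htt, map_one]; rfl
    let e1 : V ≃ {a : V // ρ t a = a} × {b : V // ρ t b = -b} :=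
      { toFun := fun v => (⟨v + ρ t v, by rw [map_add, htt', add_comm]⟩,
          ⟨v - ρ t v, by rw [map_sub, htt', neg_sub]⟩)
        invFun := fun p => (2⁻¹ : ZMod q) • ((p.1 : V) + (p.2 : V))
        left_inv := by
          intro v
          show (2⁻¹ : ZMod q) • ((v + ρ t v) + (v - ρ t v)) = v
          rw [show (v + ρ t v) + (v - ρ t v) = (2 : ZMod q) • v by rw [two_smul]; abel,
            smul_smul, inv_mul_cancel₀ h2, one_smul]
        right_inv := by
          rintro ⟨⟨a, ha'⟩, ⟨b, hb'⟩⟩
          apply Prod.ext <;> apply Subtype.ext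
          · show (2⁻¹ : ZMod q) • (a + b) + ρ t ((2⁻¹ : ZMod q) • (a + b)) = a
            rw [map_smul, map_add, ha', hb', ← smul_add,
              show (a + b) + (a + -b) = (2 : ZMod q) • a by rw [two_smul]; abel,
              smul_smul, inv_mul_cancel₀ h2, one_smul]
          · show (2⁻¹ : ZMod q) • (a + b) - ρ t ((2⁻¹ : ZMod q) • (a + b)) = b
            rw [map_smul, map_add, ha', hb', ← smul_sub,
              show (a + b) - (a + -b) = (2 : ZMod q) • b by rw [two_smul]; abel,
              smul_smul, inv_mul_cancel₀ h2, one_smul] }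
    let e2 : {a : V // ρ t a = a} ≃ {b : V // ρ t b = -b} :=
      Equiv.subtypeEquiv (ρ g).toEquiv (by
        intro a
        show ρ t a = a ↔ ρ t (ρ g a) = -(ρ g a)
        constructor
        · intro h
          have := hanti a
          rw [h] at this
          exact neg_eq_iff_eq_neg.mp this.symm
        · intro h
          have := hanti a
          rw [h, neg_neg] at this
          exact (ρ g).injective this)
    have hc := Fintype.card_congr (e1.trans (Equiv.prodCongr (Equiv.refl _) e2.symm))
    rw [Fintype.card_prod, Fintype.card_subtype] at hc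
    exact hc
  obtain ⟨t₀, ht₀C, ht₀t, ht₀v⟩ := hex v₀ hv₀
  refine ⟨(Finset.univ.filter (fun v : V => ρ t₀ v = v)).card, ?_, ?_⟩
  · rw [Nat.card_eq_fintype_card]; exact hsq t₀ ht₀C ht₀t
  · have hall : ∀ t : {t : G // t ∉ C ∧ t * t = 1},
        (Finset.univ.filter (fun v : V => ρ t.1 v = v)).card =
          (Finset.univ.filter (fun v : V => ρ t₀ v = v)).card := by
      intro t
      have h1 := hsq t.1 t.2.1 t.2.2
      have h2' := hsq t₀ ht₀C ht₀t
      exact Nat.mul_self_inj.mp (h1.symm.trans h2')
    have hunion : (Finset.univ.erase (0 : V)) =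
        (Finset.univ : Finset {t : G // t ∉ C ∧ t * t = 1}).biUnion
          (fun t => (Finset.univ.filter (fun v : V => ρ t.1 v = v)).erase 0) := by
      ext v
      simp only [Finset.mem_erase, Finset.mem_univ, and_true, Finset.mem_biUnion, true_and,
        Finset.mem_filter]
      constructor
      · intro hv
        obtain ⟨t, htC, htt, htv⟩ := hex v hv
        exact ⟨⟨t, htC, htt⟩, hv, htv⟩
      · rintro ⟨t, hv, -⟩; exact hv
    have hdisj : ∀ t ∈ (Finset.univ : Finset {t : G // t ∉ C ∧ t * t = 1}),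
        ∀ t' ∈ (Finset.univ : Finset {t : G // t ∉ C ∧ t * t = 1}), t ≠ t' →
        Disjoint ((Finset.univ.filter (fun v : V => ρ t.1 v = v)).erase 0)
          ((Finset.univ.filter (fun v : V => ρ t'.1 v = v)).erase 0) := by
      intro t _ t' _ hne
      rw [Finset.disjoint_left]
      intro v hv hv'
      simp only [Finset.mem_erase, Finset.mem_filter, Finset.mem_univ, true_and] at hv hv'
      exact hne (Subtype.ext (huniq v hv.1 t.1 t'.1 t.2.1 t'.2.1 hv.2 hv'.2))
    have hcount := congrArg Finset.card hunion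
    rw [Finset.card_biUnion hdisj, Finset.card_erase_of_mem (Finset.mem_univ _),
      Finset.card_univ] at hcount
    have hfib : ∀ t : {t : G // t ∉ C ∧ t * t = 1},
        ((Finset.univ.filter (fun v : V => ρ t.1 v = v)).erase 0).card =
          (Finset.univ.filter (fun v : V => ρ t₀ v = v)).card - 1 := by
      intro t
      rw [Finset.card_erase_of_mem (by simp), hall t]
    rw [Finset.sum_congr rfl (fun t _ => hfib t), Finset.sum_const, Finset.card_univ,
      smul_eq_mul, hsq t₀ ht₀C ht₀t] at hcount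
    have hQ2 : 2 ≤ (Finset.univ.filter (fun v : V => ρ t₀ v = v)).card := by
      have : 1 < (Finset.univ.filter (fun v : V => ρ t₀ v = v)).card :=
        Finset.one_lt_card.mpr ⟨0, by simp, v₀, by simp [ht₀v], hv₀.symm⟩
      exact this
    rw [Nat.card_eq_fintype_card]
    obtain ⟨k, hk⟩ := Nat.exists_eq_add_of_le hQ2
    rw [hk] at hcount ⊢
    have h3 : (2 + k) * (2 + k) - 1 = (k + 3) * (k + 1) := by
      apply Nat.sub_eq_of_eq_add; ring
    have h4 : 2 + k - 1 = k + 1 := by omega
    rw [h3, h4] at hcount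
    have := Nat.eq_of_mul_eq_mul_right (Nat.succ_pos k) hcount
    omega

end Cfsg.Agent.Lib.Helper72.Half
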